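import Groth.Agent.Lib.Helper18.FF.RiemannRoch
import Groth.Agent.Lib.Helper18.FF.Residue
import Groth.Agent.Lib.Helper18.FF.Adele3
import Groth.Agent.Lib.Helper18.FF.Degree3
import Groth.Prelude.Def_W4bk4goldsch45
import Mathlib.FieldTheory.Finite.Basic

/-! # Function fields over finite fields: finiteness of places and effective divisors -/

set_option autoImplicit false
set_option linter.style.haveILetI false

namespace Groth.Agent.Lib.Helper24.Zeta

open FunFld WithZero Groth.Agent.Lib.Helper18.FF

universe u v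

variable {k : Type u} {K : Type v} [Field k] [Field K] [Algebra k K]

/-- Over a finite constant field, every integral element satisfies `x^(q^deg P) ≡ x` mod `P`. -/
theorem val_pow_card_sub_lt_one [Finite k] (hK : IsFunctionField k K) (P : Place k K) {x : K}
    (hx : P.1 x ≤ 1) : P.1 (x ^ (Nat.card k ^ P.deg) - x) < 1 := by
  letI : Algebra k (IsLocalRing.ResidueField P.O) := IsLocalRing.ResidueField.algebra P.O
  haveI hfd : FiniteDimensional k (IsLocalRing.ResidueField P.O) :=
    finiteDimensional_residueField hK P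
  haveI : Finite (IsLocalRing.ResidueField P.O) := Module.finite_of_finite k
  haveI := Fintype.ofFinite (IsLocalRing.ResidueField P.O)
  have hcard : Fintype.card (IsLocalRing.ResidueField P.O) = Nat.card k ^ P.deg := by
    rw [← Nat.card_eq_fintype_card, Module.natCard_eq_pow_finrank (K := k)]
    rfl
  have h1 := FiniteField.pow_card (res P x hx)
  rw [hcard] at h1
  have hxn : P.1 (x ^ (Nat.card k ^ P.deg)) ≤ 1 := by
    rw [map_pow]; exact pow_le_one' hx _
  have hsub : P.1 (x ^ (Nat.card k ^ P.deg) - x) ≤ 1 :=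
    (Valuation.map_sub _ _ _).trans (max_le hxn hx)
  rw [← res_eq_zero_iff P _ hsub]
  -- residue is a ring hom
  have h2 : res P (x ^ (Nat.card k ^ P.deg) - x) hsub =
      (res P x hx) ^ (Nat.card k ^ P.deg) - res P x hx := by
    show IsLocalRing.residue P.O ⟨_, hsub⟩ = (IsLocalRing.residue P.O ⟨x, hx⟩) ^ _ -
      IsLocalRing.residue P.O ⟨x, hx⟩
    rw [← map_pow, ← map_sub]
    rfl
  rw [h2, h1, sub_self]

theorem finite_places_deg_le [Finite k] (hK : IsFunctionField k K) (n : ℕ) :
    {P : Place k K | P.deg ≤ n}.Finite := by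
  obtain ⟨x, hx, -⟩ := hK.1
  have hq : 2 ≤ Nat.card k := by
    haveI := Fintype.ofFinite k
    rw [Nat.card_eq_fintype_card]
    exact Fintype.one_lt_card
  have hy : ∀ m : ℕ, 1 ≤ m → x ^ (Nat.card k ^ m) - x ≠ 0 := by
    intro m hm h0
    apply hx
    have hN : 2 ≤ Nat.card k ^ m := by
      calc 2 ≤ Nat.card k := hq
        _ = Nat.card k ^ 1 := (pow_one _).symm
        _ ≤ Nat.card k ^ m := Nat.pow_le_pow_right (by omega) hm
    refine ⟨Polynomial.X ^ (Nat.card k ^ m) - Polynomial.X, ?_, ?_⟩
    · intro h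
      have := congrArg (fun p => Polynomial.coeff p 1) h
      simp only [Polynomial.coeff_sub, Polynomial.coeff_X_pow, Polynomial.coeff_X_one,
        Polynomial.coeff_zero] at this
      rw [if_neg (by omega)] at this
      simp at this
    · simpa using h0
  have hfin : ({P : Place k K | ¬ P.1 x ≤ 1} ∪
      ⋃ m ∈ Finset.Icc 1 n, {P : Place k K | P.1 (x ^ (Nat.card k ^ m) - x) < 1}).Finite := by
    refine (finite_poles' hK x).union (Set.Finite.biUnion (Finset.finite_toSet _) fun m hm => ?_)
    have hm1 : 1 ≤ m := (Finset.mem_Icc.mp hm).1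
    refine (finite_support_ord hK (x ^ (Nat.card k ^ m) - x)).subset ?_
    intro P hP
    rw [Function.mem_support]
    have := (val_lt_one_iff_ord_pos P (hy m hm1)).mp hP
    omega
  refine hfin.subset ?_
  intro P hP
  by_cases hPx : P.1 x ≤ 1
  · right
    simp only [Set.mem_iUnion, Set.mem_setOf_eq]
    refine ⟨P.deg, Finset.mem_Icc.mpr ⟨deg_pos hK P, hP⟩, ?_⟩
    exact val_pow_card_sub_lt_one hK P hPx
  · left
    exact hPx

/-- For an effective divisor of degree `n`, every place in the support has degree `≤ n` and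
multiplicity `≤ n`. -/
theorem eff_bound (hK : IsFunctionField k K) {D : Divisor k K} (hD : 0 ≤ D) {n : ℕ}
    (hn : D.deg = n) (P : Place k K) (hP : D P ≠ 0) : P.deg ≤ n ∧ D P ≤ n := by
  classical
  have hDP : 0 ≤ D P := hD P
  have hPpos : 1 ≤ D P := by omega
  have hdeg : D.deg = (D - Finsupp.single P (D P)).deg + D P * (P.deg : ℤ) := by
    rw [deg_sub, deg_single]; ring
  have hnn : 0 ≤ (D - Finsupp.single P (D P)).deg := by
    apply deg_nonneg_of_nonneg
    intro Q
    rw [Finsupp.zero_apply, Finsupp.sub_apply]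
    by_cases hQ : Q = P
    · subst hQ
      rw [Finsupp.single_eq_same, sub_self]
    · rw [Finsupp.single_eq_of_ne hQ, sub_zero]
      exact hD Q
  have hdp : (1 : ℤ) ≤ (P.deg : ℤ) := by exact_mod_cast deg_pos hK P
  have h1 : D P * (P.deg : ℤ) ≤ n := by rw [← hn, hdeg]; omega
  constructor
  · have : (P.deg : ℤ) ≤ D P * (P.deg : ℤ) := by nlinarith
    exact_mod_cast this.trans h1
  · have : D P ≤ D P * (P.deg : ℤ) := by nlinarith
    exact this.trans h1

theorem finite_effDiv [Finite k] (hK : IsFunctionField k K) (n : ℕ) :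
    Finite {D : Divisor k K // 0 ≤ D ∧ D.deg = n} := by
  classical
  have hS := finite_places_deg_le hK n
  haveI : Finite ↥{P : Place k K | P.deg ≤ n} := hS.to_subtype
  let f : {D : Divisor k K // 0 ≤ D ∧ D.deg = n} → (↥{P : Place k K | P.deg ≤ n} → Fin (n + 1)) :=
    fun D P => ⟨(D.1 P.1).toNat, by
      by_cases h0 : D.1 P.1 = 0
      · rw [h0]; simp
      · have := (eff_bound hK D.2.1 D.2.2 P.1 h0).2
        omega⟩
  refine Finite.of_injective f ?_
  intro D E hDE
  apply Subtype.ext
  ext P
  by_cases hP : P.deg ≤ n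
  · have h1 := congrFun hDE ⟨P, hP⟩
    have h2 : (D.1 P).toNat = (E.1 P).toNat := congrArg Fin.val h1
    have hD0 := D.2.1 P
    have hE0 := E.2.1 P
    rw [Finsupp.zero_apply] at hD0 hE0
    omega
  · have hD0 : D.1 P = 0 := by
      by_contra h
      exact hP (eff_bound hK D.2.1 D.2.2 P h).1
    have hE0 : E.1 P = 0 := by
      by_contra h
      exact hP (eff_bound hK E.2.1 E.2.2 P h).1
    rw [hD0, hE0]

end Groth.Agent.Lib.Helper24.Zeta
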