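import Groth.Agent.Lib.Helper24.Zeta.Finite
import Groth.Agent.Lib.Helper18.FF.Principal
import Groth.Agent.Lib.Helper18.FF.Exists

/-! # Counting effective divisors in a divisor class over a finite field -/

set_option autoImplicit false
set_option linter.style.haveILetI false

namespace Groth.Agent.Lib.Helper24.Zeta

open FunFld WithZero Groth.Agent.Lib.Helper18.FF

universe u v

variable {k : Type u} {K : Type v} [Field k] [Field K] [Algebra k K]

theorem div_zero' (hK : IsFunctionField k K) : FunFld.div k (0 : K) = 0 := by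
  ext P
  rw [div_apply hK, ord_zero, Finsupp.zero_apply]

theorem mem_prinDivs_iff (hK : IsFunctionField k K) (D : Divisor k K) :
    D ∈ prinDivs k K ↔ ∃ x : K, x ≠ 0 ∧ D = FunFld.div k x := by
  constructor
  · intro hD
    let S : AddSubgroup (Divisor k K) :=
      { carrier := {D | ∃ x : K, x ≠ 0 ∧ D = FunFld.div k x}
        zero_mem' := ⟨1, one_ne_zero, (Groth.Agent.Lib.Helper18.FF.div_one hK).symm⟩
        add_mem' := by
          rintro _ _ ⟨x, hx, rfl⟩ ⟨y, hy, rfl⟩
          exact ⟨x * y, mul_ne_zero hx hy, (div_mul hK hx hy).symm⟩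
        neg_mem' := by
          rintro _ ⟨x, hx, rfl⟩
          exact ⟨x⁻¹, inv_ne_zero hx, (div_inv hK x).symm⟩ }
    have hle : prinDivs k K ≤ S := by
      unfold prinDivs
      rw [AddSubgroup.closure_le]
      rintro _ ⟨x, rfl⟩
      rcases eq_or_ne x 0 with rfl | hx
      · exact ⟨1, one_ne_zero, by
          show FunFld.div k (0 : K) = FunFld.div k 1
          rw [div_zero' hK, Groth.Agent.Lib.Helper18.FF.div_one hK]⟩
      · exact ⟨x, hx, rfl⟩
    exact hle hD
  · rintro ⟨x, -, rfl⟩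
    exact AddSubgroup.subset_closure ⟨x, rfl⟩

theorem degHom_apply (D : Divisor k K) : degHom k K D = D.deg := by
  unfold degHom Divisor.deg
  rw [Finsupp.liftAddHom_apply]
  rfl

theorem deg_eq_zero_of_mem_prinDivs (hK : IsFunctionField k K) {D : Divisor k K}
    (hD : D ∈ prinDivs k K) : D.deg = 0 := by
  obtain ⟨x, -, rfl⟩ := (mem_prinDivs_iff hK D).mp hD
  exact deg_div_eq_zero hK x

/-- A function without zeros and poles is a nonzero constant. -/
theorem exists_const_of_div_eq_zero (hK : IsFunctionField k K) {x : K} (hx : x ≠ 0)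
    (h : FunFld.div k x = 0) : ∃ c : k, c ≠ 0 ∧ x = algebraMap k K c := by
  by_contra hcon
  have hnc : x ∉ Set.range (algebraMap k K) := by
    rintro ⟨c, rfl⟩
    exact hcon ⟨c, fun h0 => hx (by rw [h0, map_zero]), rfl⟩
  obtain ⟨P, hP⟩ := exists_pole hK hnc
  have h1 : P.ord x = 0 := by rw [← div_apply hK, h, Finsupp.zero_apply]
  have h2 := val_eq_exp_neg_ord P hx
  rw [h1, neg_zero, exp_zero] at h2
  rw [h2] at hP
  exact lt_irrefl _ hP

/-- The effective divisors linearly equivalent to `D`. -/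
abbrev EffIn (D : Divisor k K) : Type _ :=
  {E : Divisor k K // 0 ≤ E ∧ E - D ∈ prinDivs k K}

/-- The map `L(D) ∖ 0 → |D|`. -/
noncomputable def toEffIn (hK : IsFunctionField k K) (D : Divisor k K)
    (f : {f : L D // f ≠ 0}) : EffIn D :=
  ⟨D + FunFld.div k (f.1 : K), by
    have hf0 : (f.1 : K) ≠ 0 := fun h => f.2 (Subtype.ext h)
    exact ⟨(mem_L_iff_div hK D hf0).mp f.1.2, by
      rw [add_sub_cancel_left]
      exact (mem_prinDivs_iff hK _).mpr ⟨_, hf0, rfl⟩⟩⟩

theorem toEffIn_surjective (hK : IsFunctionField k K) (D : Divisor k K) :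
    Function.Surjective (toEffIn hK D) := by
  rintro ⟨E, hE0, hE⟩
  obtain ⟨x, hx, hEx⟩ := (mem_prinDivs_iff hK _).mp hE
  have hED : E = D + FunFld.div k x := by rw [← hEx]; abel
  have hxL : x ∈ L D := (mem_L_iff_div hK D hx).mpr (hED ▸ hE0)
  refine ⟨⟨⟨x, hxL⟩, fun h => hx (congrArg Subtype.val h)⟩, ?_⟩
  apply Subtype.ext
  exact hED.symm

theorem toEffIn_eq_iff (hK : IsFunctionField k K) (D : Divisor k K) (f f' : {f : L D // f ≠ 0}) :
    toEffIn hK D f' = toEffIn hK D f ↔ ∃ c : k, c ≠ 0 ∧ (f'.1 : K) = c • (f.1 : K) := by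
  have hf0 : (f.1 : K) ≠ 0 := fun h => f.2 (Subtype.ext h)
  have hf'0 : (f'.1 : K) ≠ 0 := fun h => f'.2 (Subtype.ext h)
  constructor
  · intro h
    have h1 : FunFld.div k (f'.1 : K) = FunFld.div k (f.1 : K) := by
      have := congrArg Subtype.val h
      exact add_left_cancel this
    have h2 : FunFld.div k ((f'.1 : K) * (f.1 : K)⁻¹) = 0 := by
      rw [div_mul hK hf'0 (inv_ne_zero hf0), div_inv hK, h1, add_neg_cancel]
    obtain ⟨c, hc, hcx⟩ := exists_const_of_div_eq_zero hK (mul_ne_zero hf'0 (inv_ne_zero hf0)) h2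
    refine ⟨c, hc, ?_⟩
    rw [Algebra.smul_def, ← hcx, mul_assoc, inv_mul_cancel₀ hf0, mul_one]
  · rintro ⟨c, hc, hcf⟩
    apply Subtype.ext
    show D + FunFld.div k (f'.1 : K) = D + FunFld.div k (f.1 : K)
    have hc0 : algebraMap k K c ≠ 0 := fun h => hc ((map_eq_zero _).mp h)
    have hdc : FunFld.div k (algebraMap k K c) = 0 := by
      ext P
      rw [div_apply hK, Finsupp.zero_apply, ord_algebraMap]
    rw [hcf, Algebra.smul_def, div_mul hK hc0 hf0, hdc, zero_add]

theorem finite_effIn [Finite k] (hK : IsFunctionField k K) (D : Divisor k K) :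
    Finite (EffIn D) := by
  haveI := finiteDimensional_L hK D
  haveI : Finite (L D) := Module.finite_of_finite k
  exact Finite.of_surjective _ (toEffIn_surjective hK D)

/-- The fibres of `L(D) ∖ 0 → |D|` are torsors under `kˣ`. -/
theorem card_fibre_toEffIn [Finite k] (hK : IsFunctionField k K) (D : Divisor k K) (E : EffIn D) :
    Nat.card {f : {f : L D // f ≠ 0} // toEffIn hK D f = E} = Nat.card k - 1 := by
  obtain ⟨f₀, hf₀⟩ := toEffIn_surjective hK D E
  have hf₀0 : (f₀.1 : K) ≠ 0 := fun h => f₀.2 (Subtype.ext h)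
  rw [← Nat.card_units]
  symm
  let g : kˣ → {f : {f : L D // f ≠ 0} // toEffIn hK D f = E} := fun c =>
    ⟨⟨⟨(c : k) • (f₀.1 : K), (L D).smul_mem _ f₀.1.2⟩, fun h => by
        have h1 : (c : k) • (f₀.1 : K) = 0 := congrArg Subtype.val h
        rw [smul_eq_zero] at h1
        rcases h1 with h1 | h1
        · exact c.ne_zero h1
        · exact hf₀0 h1⟩, by
      rw [← hf₀]
      exact (toEffIn_eq_iff hK D f₀ _).mpr ⟨c, c.ne_zero, rfl⟩⟩
  refine Nat.card_eq_of_bijective g ⟨?_, ?_⟩
  · intro c c' h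
    have h1 : (c : k) • (f₀.1 : K) = (c' : k) • (f₀.1 : K) :=
      congrArg (fun z => ((z.1.1 : L D) : K)) h
    rw [Algebra.smul_def, Algebra.smul_def] at h1
    have h2 := mul_right_cancel₀ hf₀0 h1
    exact Units.ext ((algebraMap k K).injective h2)
  · rintro ⟨f, hf⟩
    rw [← hf₀] at hf
    obtain ⟨c, hc, hcf⟩ := (toEffIn_eq_iff hK D f₀ f).mp hf
    refine ⟨Units.mk0 c hc, ?_⟩
    apply Subtype.ext
    apply Subtype.ext
    apply Subtype.ext
    exact hcf.symm

/-- `(q - 1) · #|D| = q^{ℓ(D)} - 1`. -/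
theorem card_effIn [Finite k] (hK : IsFunctionField k K) (D : Divisor k K) :
    (Nat.card k - 1) * Nat.card (EffIn D) = Nat.card k ^ ell D - 1 := by
  classical
  haveI := finiteDimensional_L hK D
  haveI : Finite (L D) := Module.finite_of_finite k
  haveI := finite_effIn hK D
  haveI := Fintype.ofFinite (EffIn D)
  have h1 : Nat.card {f : L D // f ≠ 0} = Nat.card k ^ ell D - 1 := by
    have h2 : Nat.card {f : L D // f ≠ 0} = Set.ncard {f : L D | f ≠ 0} :=
      Nat.card_coe_set_eq _
    have h3 : {f : L D | f ≠ 0} = Set.univ \ {0} := by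
      ext f
      simp
    rw [h2, h3, Set.ncard_diff_singleton_of_mem (Set.mem_univ _), Set.ncard_univ,
      Module.natCard_eq_pow_finrank (K := k)]
    rfl
  rw [← h1, Nat.card_congr (Equiv.sigmaFiberEquiv (toEffIn hK D)).symm, Nat.card_sigma]
  simp only [card_fibre_toEffIn hK D]
  rw [Finset.sum_const, Finset.card_univ, smul_eq_mul, ← Nat.card_eq_fintype_card (α := EffIn D),
    mul_comm]

end Groth.Agent.Lib.Helper24.Zeta
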