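import Groth.Agent.Lib.Helper24.Zeta.ClassCount

/-! # Finiteness of the class number and the number of effective divisors of large degree -/

set_option autoImplicit false
set_option linter.style.haveILetI false

namespace Groth.Agent.Lib.Helper24.Zeta

open FunFld WithZero Groth.Agent.Lib.Helper18.FF

universe u v

variable {k : Type u} {K : Type v} [Field k] [Field K] [Algebra k K]

theorem mem_ker_degHom (D : Divisor k K) : D ∈ (degHom k K).ker ↔ D.deg = 0 := by
  rw [AddMonoidHom.mem_ker, degHom_apply]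

variable (k K) in
/-- The group of divisor classes of degree zero. -/
abbrev Cl0 : Type _ := (degHom k K).ker ⧸ (prinDivs k K).addSubgroupOf (degHom k K).ker

/-- The class of `E - D₀` for an effective divisor `E` of degree `n = deg D₀`. -/
noncomputable def effClass (D₀ : Divisor k K) (n : ℕ) (hD₀ : D₀.deg = n)
    (E : {D : Divisor k K // 0 ≤ D ∧ D.deg = n}) : Cl0 k K :=
  QuotientAddGroup.mk ⟨E.1 - D₀, by rw [mem_ker_degHom, deg_sub, E.2.2, hD₀, sub_self]⟩

theorem mk_eq_mk_iff (C C' : (degHom k K).ker) :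
    (QuotientAddGroup.mk C : Cl0 k K) = QuotientAddGroup.mk C' ↔
      (C.1 - C'.1 : Divisor k K) ∈ prinDivs k K := by
  rw [QuotientAddGroup.eq, AddSubgroup.mem_addSubgroupOf]
  have h1 : ((-C + C' : (degHom k K).ker) : Divisor k K) = -(C.1 - C'.1) := by
    push_cast
    abel
  rw [h1, neg_mem_iff]

/-- The fibre of the class map over `c` is the linear system `|D₀ + C|`. -/
noncomputable def fibreEquiv (hK : IsFunctionField k K) (D₀ : Divisor k K) (n : ℕ)
    (hD₀ : D₀.deg = n) (c : Cl0 k K) :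
    {E : {D : Divisor k K // 0 ≤ D ∧ D.deg = n} // effClass D₀ n hD₀ E = c} ≃
      EffIn (D₀ + (Quotient.out c : (degHom k K).ker).1) where
  toFun E := ⟨E.1.1, E.1.2.1, by
    have h : effClass D₀ n hD₀ E.1 = QuotientAddGroup.mk (Quotient.out c) :=
      E.2.trans (QuotientAddGroup.out_eq' c).symm
    have h1 := (mk_eq_mk_iff _ _).mp h
    have h2 : E.1.1 - (D₀ + (Quotient.out c : (degHom k K).ker).1) =
        E.1.1 - D₀ - (Quotient.out c : (degHom k K).ker).1 := by abel
    rw [h2]
    exact h1⟩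
  invFun E := ⟨⟨E.1, E.2.1, by
    have h1 := deg_eq_zero_of_mem_prinDivs hK E.2.2
    have h2 := (mem_ker_degHom _).mp (Quotient.out c : (degHom k K).ker).2
    rw [deg_sub, deg_add, h2, hD₀] at h1
    omega⟩, by
    refine Eq.trans ?_ (QuotientAddGroup.out_eq' c)
    refine (mk_eq_mk_iff _ _).mpr ?_
    have h2 : E.1 - D₀ - (Quotient.out c : (degHom k K).ker).1 =
        E.1 - (D₀ + (Quotient.out c : (degHom k K).ker).1) := by abel
    show E.1 - D₀ - (Quotient.out c : (degHom k K).ker).1 ∈ prinDivs k K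
    rw [h2]
    exact E.2.2⟩
  left_inv E := rfl
  right_inv E := rfl

theorem effClass_surjective (hK : IsFunctionField k K) (D₀ : Divisor k K) (n : ℕ)
    (hD₀ : D₀.deg = n) (hn : 2 * genus k K ≤ n + 1) :
    Function.Surjective (effClass D₀ n hD₀) := by
  intro c
  obtain ⟨C, rfl⟩ := QuotientAddGroup.mk_surjective c
  have hC := (mem_ker_degHom _).mp C.2
  have hdeg : (D₀ + C.1).deg = n := by rw [deg_add, hC, hD₀, add_zero]
  have hell := ell_eq_of_deg_ge hK (D₀ + C.1) (by rw [hdeg]; omega)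
  rw [hdeg] at hell
  have hpos : 0 < ell (D₀ + C.1) := by
    have : (0 : ℤ) < (ell (D₀ + C.1) : ℤ) := by rw [hell]; omega
    exact_mod_cast this
  obtain ⟨x, hx0, hx⟩ := exists_ne_zero_mem_L_of_ell_pos hpos
  have hE0 : 0 ≤ D₀ + C.1 + FunFld.div k x := (mem_L_iff_div hK _ hx0).mp hx
  refine ⟨⟨D₀ + C.1 + FunFld.div k x, hE0, by rw [deg_add_div hK, hdeg]⟩, ?_⟩
  refine (mk_eq_mk_iff _ _).mpr ?_
  show D₀ + C.1 + FunFld.div k x - D₀ - C.1 ∈ prinDivs k K
  have : D₀ + C.1 + FunFld.div k x - D₀ - C.1 = FunFld.div k x := by abel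
  rw [this]
  exact (mem_prinDivs_iff hK _).mpr ⟨x, hx0, rfl⟩

theorem finite_cl0 [Finite k] (hK : IsFunctionField k K) : Finite (Cl0 k K) := by
  obtain ⟨P⟩ := exists_place hK
  set n := 2 * genus k K * P.deg with hn
  have hD₀ : Divisor.deg (Finsupp.single P (2 * genus k K : ℤ) : Divisor k K) = n := by
    rw [deg_single, hn]
    push_cast
    ring
  haveI := finite_effDiv hK n
  refine Finite.of_surjective _ (effClass_surjective hK _ n hD₀ ?_)
  have := deg_pos hK P
  rw [hn]
  nlinarith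

/-- `(q - 1) a(n) = h (q^{n+1-g} - 1)` for `n ≥ 2g - 1` a degree of a divisor. -/
theorem card_effDiv_eq [Finite k] (hK : IsFunctionField k K) (D₀ : Divisor k K) (n : ℕ)
    (hD₀ : D₀.deg = n) (hn : 2 * genus k K ≤ n + 1) :
    (Nat.card k - 1) * effDivCount k K n =
      classNum k K * (Nat.card k ^ (n + 1 - genus k K) - 1) := by
  classical
  haveI := finite_cl0 hK
  haveI := Fintype.ofFinite (Cl0 k K)
  haveI := finite_effDiv hK n
  unfold effDivCount classNum
  rw [Nat.card_congr (Equiv.sigmaFiberEquiv (effClass D₀ n hD₀)).symm, Nat.card_sigma,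
    Finset.mul_sum]
  have hterm : ∀ c : Cl0 k K,
      (Nat.card k - 1) * Nat.card {E // effClass D₀ n hD₀ E = c} =
        Nat.card k ^ (n + 1 - genus k K) - 1 := by
    intro c
    rw [Nat.card_congr (fibreEquiv hK D₀ n hD₀ c), card_effIn hK]
    have hC := (mem_ker_degHom _).mp (Quotient.out c : (degHom k K).ker).2
    have hdeg : (D₀ + (Quotient.out c : (degHom k K).ker).1).deg = n := by
      rw [deg_add, hC, hD₀, add_zero]
    have hell := ell_eq_of_deg_ge hK (D₀ + (Quotient.out c : (degHom k K).ker).1)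
      (by rw [hdeg]; omega)
    rw [hdeg] at hell
    have : ell (D₀ + (Quotient.out c : (degHom k K).ker).1) = n + 1 - genus k K := by omega
    rw [this]
  rw [Finset.sum_congr rfl fun c _ => hterm c, Finset.sum_const, Finset.card_univ, smul_eq_mul,
    ← Nat.card_eq_fintype_card (α := Cl0 k K)]

theorem class_number_main [Finite k] (hK : IsFunctionField k K) :
    Finite (Cl0 k K) ∧
    ∀ n : ℕ, 2 * genus k K ≤ n + 1 →
      ((∃ D : Divisor k K, D.deg = n) →
        ((Nat.card k : ℤ) - 1) * (effDivCount k K n : ℤ) =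
          (classNum k K : ℤ) * ((Nat.card k : ℤ) ^ (n + 1 - genus k K) - 1)) ∧
      ((¬ ∃ D : Divisor k K, D.deg = n) → effDivCount k K n = 0) := by
  refine ⟨finite_cl0 hK, fun n hn => ⟨?_, ?_⟩⟩
  · rintro ⟨D₀, hD₀⟩
    have h := card_effDiv_eq hK D₀ n hD₀ hn
    have hq : 1 ≤ Nat.card k := Nat.card_pos
    have hqm : 1 ≤ Nat.card k ^ (n + 1 - genus k K) := Nat.one_le_pow _ _ hq
    have h' : (((Nat.card k - 1) * effDivCount k K n : ℕ) : ℤ) =
        ((classNum k K * (Nat.card k ^ (n + 1 - genus k K) - 1) : ℕ) : ℤ) := by rw [h]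
    push_cast [Nat.cast_sub hq, Nat.cast_sub hqm] at h'
    exact h'
  · intro hno
    unfold effDivCount
    haveI : IsEmpty {D : Divisor k K // 0 ≤ D ∧ D.deg = n} :=
      ⟨fun D => hno ⟨D.1, D.2.2⟩⟩
    exact Nat.card_of_isEmpty

end Groth.Agent.Lib.Helper24.Zeta
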